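import Groth.Prelude.Def_CohTop
import Groth.Agent.QCoh.Ab.Push

/-!
# Abelian sheaves on a space through sections; the long exact cohomology sequence
-/

universe u

set_option autoImplicit false
set_option backward.isDefEq.respectTransparency false
set_option backward.isDefEq.respectTransparency.types false
set_option linter.style.haveILetI false

open CategoryTheory CategoryTheory.Limits TopologicalSpace Opposite

namespace Groth.Agent.Div57.Units

variable {X : TopCat.{u}} {F G K P : CohTop.Ab X}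

theorem app_congr {f g : F ⟶ G} (h : f = g) (U : Opens X) (x : F.obj.obj (op U)) :
    f.hom.app (op U) x = g.hom.app (op U) x := by rw [h]

theorem mono_of_app (f : F ⟶ G) (h : ∀ U : Opens X, Function.Injective (f.hom.app (op U))) : Mono f := by
  haveI : ∀ V, Mono (f.hom.app V) := fun V => (AddCommGrpCat.mono_iff_injective _).2 (h V.unop)
  haveI : Mono f.hom := NatTrans.mono_of_mono_app _
  exact (sheafToPresheaf _ _).mono_of_mono_map (f := f) ‹_›

theorem app_injective (f : F ⟶ G) [Mono f] (U : Opens X) : Function.Injective (f.hom.app (op U)) := by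
  haveI : Mono ((sheafToPresheaf _ _).map f) := inferInstance
  haveI : Mono (f.hom.app (op U)) :=
    inferInstanceAs (Mono (((sheafToPresheaf _ _).map f).app (op U)))
  exact (AddCommGrpCat.mono_iff_injective _).1 inferInstance

theorem epi_of_local (f : F ⟶ G) (h : ∀ (U : Opens X) (s : G.obj.obj (op U)), ∀ x ∈ U,
    ∃ (W : Opens X) (hW : W ≤ U), x ∈ W ∧ ∃ t, f.hom.app (op W) t = G.obj.map (homOfLE hW).op s) : Epi f :=
  (Sheaf.isLocallySurjective_iff_epi' AddCommGrpCat.{u} f).1 ⟨fun {V} s x hx => by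
    obtain ⟨W, hW, hxW, t, ht⟩ := h V s x hx
    exact ⟨W, homOfLE hW, ⟨t, ht⟩, hxW⟩⟩

theorem local_of_epi (f : F ⟶ G) [Epi f] (U : Opens X) (s : G.obj.obj (op U)) (x : X) (hx : x ∈ U) :
    ∃ (W : Opens X) (hW : W ≤ U), x ∈ W ∧ ∃ t, f.hom.app (op W) t = G.obj.map (homOfLE hW).op s := by
  haveI : Sheaf.IsLocallySurjective f := (Sheaf.isLocallySurjective_iff_epi' AddCommGrpCat.{u} f).2 inferInstance
  obtain ⟨W, i, ⟨t, ht⟩, hxW⟩ := Presheaf.imageSieve_mem (Opens.grothendieckTopology X) f.hom s x hx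
  exact ⟨W, i.le, hxW, t, ht⟩

/-- Sections of a kernel. -/
theorem exists_kernel_app (g : F ⟶ G) (U : Opens X) (s : F.obj.obj (op U)) (hs : g.hom.app (op U) s = 0) :
    ∃ t, (kernel.ι g).hom.app (op U) t = s := by
  let S := ShortComplex.mk (kernel.ι g) g (kernel.condition g)
  have hS : S.Exact := ShortComplex.exact_of_f_is_kernel _ (kernelIsKernel g)
  have h' : (S.map (sheafToPresheaf _ _ ⋙ (evaluation _ AddCommGrpCat.{u}).obj (op U))).Exact :=
    hS.map_of_mono_of_preservesKernel _ inferInstance inferInstance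
  rw [ShortComplex.ab_exact_iff] at h'
  exact h' s hs

theorem exists_app_of_exact {S : ShortComplex (CohTop.Ab X)} (hS : S.Exact) [Mono S.f] (U : Opens X)
    (s : S.X₂.obj.obj (op U)) (hs : S.g.hom.app (op U) s = 0) : ∃ t, S.f.hom.app (op U) t = s := by
  obtain ⟨t, ht⟩ := exists_kernel_app S.g U s hs
  haveI : IsIso (kernel.lift S.g S.f S.zero) := by
    haveI : Epi (kernel.lift S.g S.f S.zero) := S.exact_iff_epi_kernel_lift.1 hS
    haveI : Mono (kernel.lift S.g S.f S.zero) := mono_of_mono_fac (kernel.lift_ι _ _ _)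
    exact isIso_of_mono_of_epi _
  refine ⟨(inv (kernel.lift S.g S.f S.zero)).hom.app (op U) t, ?_⟩
  have h := app_congr (show inv (kernel.lift S.g S.f S.zero) ≫ S.f = kernel.ι S.g by
    rw [IsIso.inv_comp_eq, kernel.lift_ι]) U t
  exact h.trans ht

/-- Two epimorphisms with the same kernel on sections have isomorphic targets. -/
theorem nonempty_iso_of_epi (f : F ⟶ G) (g : F ⟶ P) [Epi f] [Epi g]
    (h : ∀ (U : Opens X) (s : F.obj.obj (op U)), f.hom.app (op U) s = 0 ↔ g.hom.app (op U) s = 0) :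
    Nonempty (G ≅ P) := by
  have h0 : ∀ {A B : CohTop.Ab X} (a : F ⟶ A) (b : F ⟶ B),
      (∀ (U : Opens X) (s : F.obj.obj (op U)), a.hom.app (op U) s = 0 → b.hom.app (op U) s = 0) →
      kernel.ι a ≫ b = 0 := by
    intro A B a b hab
    apply Sheaf.hom_ext
    ext V s
    exact hab V.unop _ (app_congr (kernel.condition a) V.unop s)
  let α := Abelian.epiDesc f g (h0 f g fun U s => (h U s).1)
  let β := Abelian.epiDesc g f (h0 g f fun U s => (h U s).2)
  refine ⟨⟨α, β, ?_, ?_⟩⟩
  · rw [← cancel_epi f, Abelian.comp_epiDesc_assoc, Abelian.comp_epiDesc, Category.comp_id]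
  · rw [← cancel_epi g, Abelian.comp_epiDesc_assoc, Abelian.comp_epiDesc, Category.comp_id]

theorem H_map_surjective {S : ShortComplex (CohTop.Ab X)} (hS : S.ShortExact) (n : ℕ)
    (h : Subsingleton (CohTop.H S.X₁ (n + 1))) : Function.Surjective (Sheaf.H.map S.g n) := fun x =>
  Abelian.Ext.covariant_sequence_exact₃ _ hS x rfl (Subsingleton.elim _ _)

theorem H_exact₂ {S : ShortComplex (CohTop.Ab X)} (hS : S.ShortExact) (n : ℕ) (x : CohTop.H S.X₂ n)
    (hx : Sheaf.H.map S.g n x = 0) : ∃ y, Sheaf.H.map S.f n y = x :=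
  Abelian.Ext.covariant_sequence_exact₂ _ hS x hx

theorem H_subsingleton_mid {S : ShortComplex (CohTop.Ab X)} (hS : S.ShortExact) (n : ℕ)
    (h1 : Subsingleton (CohTop.H S.X₁ n)) (h3 : Subsingleton (CohTop.H S.X₃ n)) :
    Subsingleton (CohTop.H S.X₂ n) :=
  subsingleton_of_forall_eq 0 fun x => by
    obtain ⟨y, rfl⟩ := H_exact₂ hS n x (Subsingleton.elim _ _)
    rw [Subsingleton.elim y 0, map_zero]

theorem nonempty_H_equiv (e : F ≅ G) (n : ℕ) : Nonempty (CohTop.H F n ≃+ CohTop.H G n) :=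
  ⟨((Sheaf.functorH (Opens.grothendieckTopology X) n).mapIso e).addCommGroupIsoToAddEquiv⟩

theorem H_map_injective_of_retraction (f : F ⟶ G) (r : G ⟶ F) (h : f ≫ r = 𝟙 F) (n : ℕ) :
    Function.Injective (Sheaf.H.map f n) := fun a b hab => by
  have := congrArg (Sheaf.H.map r n) hab
  rwa [← Sheaf.H.map_comp_apply, ← Sheaf.H.map_comp_apply, h, Sheaf.H.map_id_apply, Sheaf.H.map_id_apply] at this

end Groth.Agent.Div57.Units
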