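import Groth.Agent.ModPairLib.Basic
import Groth.Agent.Div57.Units.AbSheaf
import Groth.Agent.Div57.StIdeal

/-!
# Closed subschemes cut out by ideals of the base
-/

universe u

set_option autoImplicit false
set_option backward.isDefEq.respectTransparency false
set_option backward.isDefEq.respectTransparency.types false
set_option linter.style.haveILetI false

open CategoryTheory CategoryTheory.Limits AlgebraicGeometry TopologicalSpace Opposite

noncomputable section

namespace Groth.Agent.Div57.Units

variable {A : Type u} [CommRing A] {X : Scheme.{u}} (f : X ⟶ Spec (CommRingCat.of A))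

/-- The structure map on sections. -/
def rho (U : X.Opens) : A →+* Γ(X, U) :=
  (f.appLE ⊤ U le_top).hom.comp (Scheme.ΓSpecIso (CommRingCat.of A)).inv.hom

theorem rho_res {U V : X.Opens} (h : V ≤ U) (a : A) :
    X.presheaf.map (homOfLE h).op (rho f U a) = rho f V a := by
  change X.presheaf.map (homOfLE h).op (f.appLE ⊤ U le_top _) = f.appLE ⊤ V le_top _
  rw [← CommRingCat.comp_apply, Scheme.Hom.appLE_map]

theorem flat_rho [Flat f] (U : X.affineOpens) : (rho f U.1).Flat := by
  refine RingHom.Flat.comp ?_ (HasRingHomProperty.appLE @Flat f inferInstance ⟨⊤, isAffineOpen_top _⟩ U le_top)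
  exact RingHom.Flat.of_bijective ((Scheme.ΓSpecIso (CommRingCat.of A)).commRingCatIsoToRingEquiv.symm.bijective)

variable {A' : Type u} [CommRing A']

/-- The closed subscheme given by a quotient of the base. -/
abbrev inc (q : A →+* A') : pullback f (Spec.map (CommRingCat.ofHom q)) ⟶ X :=
  pullback.fst f (Spec.map (CommRingCat.ofHom q))

variable (q : A →+* A') (hq : Function.Surjective q)

include hq in
theorem isClosedImmersion_inc : IsClosedImmersion (inc f q) := by
  haveI : IsClosedImmersion (Spec.map (CommRingCat.ofHom q)) := IsClosedImmersion.spec_of_surjective _ hq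
  exact MorphismProperty.pullback_fst _ _ ‹_›

include hq in
theorem ker_inc_app (U : X.affineOpens) :
    RingHom.ker ((inc f q).app U.1).hom = (RingHom.ker q).map (rho f U.1) := by
  haveI := isClosedImmersion_inc f q hq
  haveI : IsClosedImmersion (Spec.map (CommRingCat.ofHom q)) := IsClosedImmersion.spec_of_surjective _ hq
  have h := congrArg (fun I => Scheme.IdealSheafData.ideal I U)
    (Scheme.IdealSheafData.ker_fst_of_isClosedImmersion (Spec.map (CommRingCat.ofHom q)) f)
  simp only [Scheme.Hom.ker_apply] at h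
  rw [h, ModPairLib.ideal_comap _ f ⟨⊤, isAffineOpen_top _⟩ U le_top, Scheme.Hom.ker_apply]
  have hnat : ((Spec.map (CommRingCat.ofHom q)).app ⊤).hom.comp (Scheme.ΓSpecIso (CommRingCat.of A)).inv.hom =
      (Scheme.ΓSpecIso (CommRingCat.of A')).inv.hom.comp q := by
    have := Scheme.ΓSpecIso_inv_naturality (CommRingCat.ofHom q)
    exact congrArg CommRingCat.Hom.hom this.symm
  rw [rho, ← Ideal.map_map]
  congr 1
  ext a
  obtain ⟨a, rfl⟩ := (Scheme.ΓSpecIso (CommRingCat.of A)).commRingCatIsoToRingEquiv.symm.surjective a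
  constructor
  · intro ha
    refine Ideal.mem_map_of_mem _ ?_
    rw [RingHom.mem_ker] at ha ⊢
    refine (Scheme.ΓSpecIso (CommRingCat.of A')).commRingCatIsoToRingEquiv.symm.injective ?_
    rw [map_zero]
    exact (congr($hnat a)).symm.trans ha
  · intro ha
    obtain ⟨b, hb, hba⟩ := (Ideal.mem_map_iff_of_surjective (Scheme.ΓSpecIso (CommRingCat.of A)).inv.hom
      ((Scheme.ΓSpecIso (CommRingCat.of A)).commRingCatIsoToRingEquiv.symm.surjective)).1 ha
    rw [← hba, RingHom.mem_ker]
    refine (congr($hnat b)).trans ?_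
    rw [RingHom.comp_apply, RingHom.mem_ker.1 hb, map_zero]

include hq in
theorem inc_app_surjective (U : X.affineOpens) : Function.Surjective ((inc f q).app U.1) := by
  haveI := isClosedImmersion_inc f q hq
  exact (inc f q).app_surjective U.1 U.2

include hq in
theorem app_rho_eq_zero {U : X.Opens} (a : A) (ha : q a = 0) : (inc f q).app U (rho f U a) = 0 := by
  have key : ∀ V : X.affineOpens, (inc f q).app V.1 (rho f V.1 a) = 0 := fun V => by
    rw [← RingHom.mem_ker, ker_inc_app f q hq V]
    exact Ideal.mem_map_of_mem _ ha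
  refine TopCat.Presheaf.section_ext (pullback f (Spec.map (CommRingCat.ofHom q))).sheaf _ _ _ fun z hz => ?_
  obtain ⟨W, hW, hzW, hWU⟩ := exists_isAffineOpen_mem_and_subset (x := inc f q z) (U := U) hz
  replace hWU : W ≤ U := hWU
  have h := key ⟨W, hW⟩
  rw [← rho_res f hWU a, ← CommRingCat.comp_apply, (inc f q).naturality, CommRingCat.comp_apply] at h
  change (pullback f (Spec.map (CommRingCat.ofHom q))).presheaf.germ _ z hz _ =
    (pullback f (Spec.map (CommRingCat.ofHom q))).presheaf.germ _ z hz 0
  rw [map_zero, ← TopCat.Presheaf.germ_res_apply (pullback f (Spec.map (CommRingCat.ofHom q))).presheaf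
    ((Opens.map (inc f q).base).map (homOfLE hWU)) z hzW]
  exact (congrArg _ h).trans (map_zero _)

/-- A section vanishes on a closed subscheme when it does so locally. -/
theorem app_eq_zero_of_local {Z : Scheme.{u}} (i : Z ⟶ X) {U : X.Opens} (s : Γ(X, U))
    (h : ∀ (W : X.affineOpens) (hW : W.1 ≤ U), i.app W.1 (X.presheaf.map (homOfLE hW).op s) = 0) :
    i.app U s = 0 := by
  refine TopCat.Presheaf.section_ext Z.sheaf _ _ _ fun z hz => ?_
  obtain ⟨W, hW, hzW, hWU⟩ := exists_isAffineOpen_mem_and_subset (x := i z) (U := U) hz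
  replace hWU : W ≤ U := hWU
  have h := h ⟨W, hW⟩ hWU
  rw [← CommRingCat.comp_apply, i.naturality, CommRingCat.comp_apply] at h
  change Z.presheaf.germ _ z hz _ = Z.presheaf.germ _ z hz 0
  rw [map_zero, ← TopCat.Presheaf.germ_res_apply Z.presheaf
    ((Opens.map i.base).map (homOfLE hWU)) z hzW]
  exact (congrArg _ h).trans (map_zero _)

theorem app_res_eq_zero {Z : Scheme.{u}} (i : Z ⟶ X) {U W : X.Opens} (hW : W ≤ U) (s : Γ(X, U))
    (h : i.app U s = 0) : i.app W (X.presheaf.map (homOfLE hW).op s) = 0 := by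
  rw [← CommRingCat.comp_apply, i.naturality, CommRingCat.comp_apply, h, map_zero]

/-- The colon ideal in a flat algebra. -/
theorem mem_map_of_mul_mem {B : Type u} [CommRing B] (φ : A →+* B) (hφ : φ.Flat) (J M : Ideal A) (t : A)
    (hM : ∀ a, t * a ∈ J ↔ a ∈ M) (r : B) (hr : φ t * r ∈ J.map φ) : r ∈ M.map φ := by
  letI := φ.toAlgebra
  haveI : Module.Flat A B := RingHom.flat_algebraMap_iff.1 hφ
  let μ : (A ⧸ M) →ₗ[A] A ⧸ J := Submodule.mapQ M J (LinearMap.mulLeft A t) fun a ha => (hM a).2 ha
  have hμ : Function.Injective μ := by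
    rw [← LinearMap.ker_eq_bot, LinearMap.ker_eq_bot']
    intro x hx
    obtain ⟨a, rfl⟩ := Submodule.Quotient.mk_surjective _ x
    rw [Submodule.mapQ_apply, Submodule.Quotient.mk_eq_zero] at hx
    exact (Submodule.Quotient.mk_eq_zero _).2 ((hM a).1 hx)
  have hinj := Module.Flat.lTensor_preserves_injective_linearMap (M := B) μ hμ
  have hzero : ∀ (I : Ideal A) (b : B),
      b ⊗ₜ[A] (Submodule.Quotient.mk (1 : A) : A ⧸ I) = 0 ↔ b ∈ I.map φ := by
    intro I b
    rw [← (TensorProduct.tensorQuotEquivQuotSMul B I).map_eq_zero_iff]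
    erw [TensorProduct.tensorQuotEquivQuotSMul_tmul_mk]
    rw [one_smul, Submodule.Quotient.mk_eq_zero, Ideal.smul_top_eq_map, Submodule.restrictScalars_mem]
    rfl
  refine (hzero M r).1 (hinj ?_)
  rw [LinearMap.lTensor_tmul, map_zero]
  change r ⊗ₜ[A] Submodule.Quotient.mk (t * 1) = 0
  rw [show (Submodule.Quotient.mk (t * 1) : A ⧸ J) = t • Submodule.Quotient.mk 1 from rfl, TensorProduct.tmul_smul,
    TensorProduct.smul_tmul', hzero, Algebra.smul_def]
  exact hr

end Groth.Agent.Div57.Units
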