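import Groth.Agent.Div57.Units.Step
import Mathlib.RingTheory.Artinian.Ring
import Mathlib.AlgebraicGeometry.Morphisms.Flat

/-!
# Cohomology of the units of infinitesimal thickenings
-/

universe u

set_option autoImplicit false
set_option backward.isDefEq.respectTransparency false
set_option backward.isDefEq.respectTransparency.types false
set_option linter.style.haveILetI false

open CategoryTheory CategoryTheory.Limits AlgebraicGeometry TopologicalSpace Opposite

noncomputable section

namespace Groth.Agent.Div57.Units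

variable {A A₁ : Type u} [CommRing A] [CommRing A₁] {X : Scheme.{u}} (f : X ⟶ Spec (CommRingCat.of A))
  (q : A →+* A₁) (hq : Function.Surjective q) (hnil : RingHom.ker q ≤ nilradical A)

include hq hnil in
theorem epi_comap : Epi (UnitsSh.comap (inc f q)) := by
  refine epi_of_local _ fun U s x hx => ?_
  obtain ⟨W, hW, hxW, hWU⟩ := exists_isAffineOpen_mem_and_subset (x := x) (U := U) hx
  replace hWU : W ≤ U := hWU
  set v := UnitsSh.unitOfSect (O := (inc f q).base _* (pullback f (Spec.map (CommRingCat.ofHom q))).presheaf)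
    (((CohTop.push (inc f q).base).obj (UnitsSh.unitsAb _)).obj.map (homOfLE hWU).op s)
  obtain ⟨a, ha⟩ := inc_app_surjective f q hq ⟨W, hW⟩ v.val
  obtain ⟨b, hb⟩ := inc_app_surjective f q hq ⟨W, hW⟩ v.inv
  have hc : IsNilpotent (a * b - 1) := by
    have h : a * b - 1 ∈ RingHom.ker ((inc f q).app W).hom := by
      rw [RingHom.mem_ker]
      erw [map_sub, map_mul, map_one, ha, hb, v.val_inv, sub_self]
    rw [ker_inc_app f q hq ⟨W, hW⟩] at h
    refine (Ideal.map_le_iff_le_comap.2 (fun c hc => ?_) : _ ≤ nilradical Γ(X, W)) h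
    exact IsNilpotent.map (hnil hc) (rho f W)
  have hu : IsUnit a := isUnit_of_mul_isUnit_left (y := b) (by
    simpa using hc.isUnit_one_add)
  exact ⟨W, hWU, hxW, UnitsSh.sectOfUnit (O := X.presheaf) hu.unit,
    congrArg (UnitsSh.sectOfUnit (O := (inc f q).base _* (pullback f (Spec.map (CommRingCat.ofHom q))).presheaf))
      (Units.ext ha)⟩

include hq hnil in
theorem shortExact_units :
    (ShortComplex.mk (kernel.ι (UnitsSh.comap (inc f q))) (UnitsSh.comap (inc f q))
      (kernel.condition _)).ShortExact := by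
  haveI := epi_comap f q hq hnil
  exact { exact := ShortComplex.exact_of_f_is_kernel _ (kernelIsKernel _) }

include hq hnil in
theorem H_map_comap_surjective (n : ℕ) (h : Subsingleton (CohTop.H (K1 (inc f q)) (n + 1))) :
    Function.Surjective (Sheaf.H.map (UnitsSh.comap (inc f q)) n) :=
  H_map_surjective (shortExact_units f q hq hnil) n h

theorem small_of_socle [IsLocalRing A] {J J' : Ideal A} (t : A) (q : A →+* A₁) (hq : Function.Surjective q)
    {A₂ : Type u} [CommRing A₂] (q' : A →+* A₂) (hq' : Function.Surjective q')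
    (hJ : RingHom.ker q = J) (hJ' : RingHom.ker q' = J') (hle : J' ≤ J) (ht : t ∈ J) (ht' : t ∉ J')
    (hspan : J ≤ J' ⊔ Ideal.span {t}) (hmt : ∀ x ∈ IsLocalRing.maximalIdeal A, t * x ∈ J')
    (htm : t ∈ IsLocalRing.maximalIdeal A) (hnil : IsNilpotent t) :
    Small q q' (IsLocalRing.residue A) t := by
  subst hJ hJ'
  refine ⟨hq, hq', IsLocalRing.residue_surjective, hle, ht, hspan, fun a => ?_, hmt t htm, hnil⟩
  rw [IsLocalRing.ker_residue]
  refine ⟨fun h => by_contra fun ha => ht' ?_, hmt a⟩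
  obtain ⟨u, rfl⟩ : IsUnit a := by rwa [IsLocalRing.mem_maximalIdeal, mem_nonunits_iff, not_not] at ha
  have := Ideal.mul_mem_right (↑u⁻¹ : A) _ h
  rwa [mul_assoc, Units.mul_inv, mul_one] at this

/-- A maximal ideal below `J` contains `mJ`. -/
theorem maximalIdeal_mul_le [IsLocalRing A] [IsArtinianRing A] {J J' : Ideal A} (hJ'lt : J' < J) (hmax : ∀ I : Ideal A, I < J → ¬ J' < I) :
    IsLocalRing.maximalIdeal A * J ≤ J' := by
  by_contra hne
  have hle : IsLocalRing.maximalIdeal A * J ≤ J := Ideal.mul_le_right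
  have h1 : J' ⊔ IsLocalRing.maximalIdeal A * J = J := by
    by_contra h2
    exact hmax _ (lt_of_le_of_ne (sup_le hJ'lt.le hle) h2)
      (lt_of_le_of_ne le_sup_left fun h => hne (h.symm ▸ le_sup_right))
  exact hJ'lt.not_ge (Submodule.le_of_le_smul_of_le_jacobson_bot (I := IsLocalRing.maximalIdeal A) (N := J') (N' := J)
    (IsNoetherian.noetherian J) (IsLocalRing.maximalIdeal_le_jacobson _) (le_of_eq h1.symm))

theorem subsingleton_H_K1 [IsArtinianRing A] [IsLocalRing A] [Flat f] (n : ℕ)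
    (hvan : Subsingleton (Coh.HH (pullback f (Spec.map (CommRingCat.ofHom (IsLocalRing.residue A))))
      (Coh.structureModule _) n)) (J : Ideal A) (hJ : J ≤ IsLocalRing.maximalIdeal A) :
    ∀ {B : Type u} [CommRing B] (q : A →+* B), Function.Surjective q → RingHom.ker q = J →
      Subsingleton (CohTop.H (K1 (inc f q)) n) := by
  induction J using WellFoundedLT.induction with
  | ind J ih =>
    intro B _ q hq hker
    by_cases hJ0 : J = ⊥
    · exact Sheaf.subsingleton_H_of_isZero (isZero_K1 f q hq (hker.trans hJ0)) n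
    obtain ⟨J', hJ'lt, hmax⟩ := set_has_maximal_iff_noetherian.2 (inferInstance : IsNoetherian A A)
      {I : Ideal A | I < J} ⟨⊥, bot_lt_iff_ne_bot.2 hJ0⟩
    replace hJ'lt : J' < J := hJ'lt
    obtain ⟨t, ht, ht'⟩ := SetLike.exists_of_lt hJ'lt
    have hspan : J ≤ J' ⊔ Ideal.span {t} := by
      by_contra hne
      have hlt : J' ⊔ Ideal.span {t} < J :=
        lt_of_le_not_ge (sup_le (le_of_lt hJ'lt) ((Ideal.span_singleton_le_iff_mem _).2 ht)) hne
      exact hmax _ hlt (lt_of_le_not_ge le_sup_left fun h => ht' (h (Ideal.mem_sup_right (Ideal.mem_span_singleton_self t))))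
    have hm : IsLocalRing.maximalIdeal A * J ≤ J' := maximalIdeal_mul_le hJ'lt fun I h h' => hmax I h h'
    have hs : Small q (Ideal.Quotient.mk J') (IsLocalRing.residue A) t :=
      small_of_socle t q hq _ Ideal.Quotient.mk_surjective hker Ideal.mk_ker (le_of_lt hJ'lt) ht ht' hspan
        (fun x hx => mul_comm x t ▸ hm (Ideal.mul_mem_mul hx ht)) (hJ ht) (by
          obtain ⟨N, hN⟩ := (isArtinianRing_iff_isNilpotent_maximalIdeal A).1 inferInstance
          exact ⟨N, by simpa [hN] using Ideal.pow_mem_pow (hJ ht) N⟩)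
    exact subsingleton_step f _ _ _ hs n
      (ih J' hJ'lt ((le_of_lt hJ'lt).trans hJ) _ Ideal.Quotient.mk_surjective Ideal.mk_ker) hvan

/-- A retraction of a nilpotent closed immersion splits the units sequence. -/
theorem exists_section {X Z : Scheme.{u}} (i : Z ⟶ X) (s : X ⟶ Z) (h : i ≫ s = 𝟙 Z) [Surjective i] :
    ∃ σ : (CohTop.push i.base).obj (UnitsSh.unitsAb Z) ⟶ UnitsSh.unitsAb X, σ ≫ UnitsSh.comap i = 𝟙 _ := by
  have hb : ∀ x : X, i (s x) = x := fun x => by
    obtain ⟨z, rfl⟩ := i.surjective x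
    rw [← Scheme.Hom.comp_apply i s, h]
    rfl
  have e : ∀ U : X.Opens, U ≤ s ⁻¹ᵁ (i ⁻¹ᵁ U) := fun U x hx => (show i (s x) ∈ U by rw [hb]; exact hx)
  refine ⟨⟨{ app := fun U => UnitsSh.unitsFunctor.map (s.appLE (i ⁻¹ᵁ U.unop) U.unop (e U.unop))
             naturality := fun U V j => ?_ }⟩, ?_⟩
  · refine ((UnitsSh.unitsFunctor).map_comp _ _).symm.trans ?_
    refine Eq.trans ?_ ((UnitsSh.unitsFunctor).map_comp _ _)
    congr 1
    refine (Scheme.Hom.map_appLE s _ _).trans ?_
    exact (Scheme.Hom.appLE_map s (V' := V.unop) _ j).symm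
  · apply Sheaf.hom_ext
    ext U v
    refine congrArg (UnitsSh.sectOfUnit (O := i.base _* Z.presheaf)) (Units.ext ?_)
    change i.app U.unop (s.appLE (i ⁻¹ᵁ U.unop) U.unop (e U.unop)
      (UnitsSh.unitOfSect (O := i.base _* Z.presheaf) v).val) = _
    rw [← CommRingCat.comp_apply, Scheme.Hom.app_eq_appLE, Scheme.Hom.appLE_comp_appLE]
    simp only [h]
    simp [Scheme.Hom.appLE]
    erw [Z.presheaf.map_id, CommRingCat.id_apply]
    rfl

theorem nonempty_ker_equiv {X : TopCat.{u}} {S : ShortComplex (CohTop.Ab X)} (hS : S.ShortExact)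
    (σ : S.X₃ ⟶ S.X₂) (hσ : σ ≫ S.g = 𝟙 _) (n : ℕ) :
    Nonempty ((Sheaf.H.map S.g n).ker ≃+ CohTop.H S.X₁ n) := by
  haveI := hS.mono_f
  let sp := ShortComplex.Splitting.ofExactOfSection S hS.exact σ hσ hS.mono_f
  have hinj := H_map_injective_of_retraction S.f sp.r sp.f_r n
  let φ : CohTop.H S.X₁ n →+ (Sheaf.H.map S.g n).ker :=
    (Sheaf.H.map S.f n).codRestrict _ fun y => by
      rw [AddMonoidHom.mem_ker, ← Sheaf.H.map_comp_apply, S.zero, Sheaf.H.map_apply, Abelian.Ext.mk₀_zero,
        Abelian.Ext.comp_zero]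
  exact ⟨(AddEquiv.ofBijective φ ⟨fun a b h => hinj (congrArg Subtype.val h), fun x => by
    obtain ⟨y, hy⟩ := H_exact₂ hS n x.1 x.2
    exact ⟨y, Subtype.ext hy⟩⟩).symm⟩

end Groth.Agent.Div57.Units
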