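import Groth.Prelude.Def_UnitsSh
import Groth.Prelude.Def_ClSub2
import Groth.Agent.QCoh.AffineCohom
import Groth.Agent.QCoh.VanIdeal
import Groth.Agent.Div57.Units.Inc

/-!
# A small extension step for sheaves of principal units
-/

universe u

set_option autoImplicit false
set_option backward.isDefEq.respectTransparency false
set_option backward.isDefEq.respectTransparency.types false
set_option linter.style.haveILetI false

open CategoryTheory CategoryTheory.Limits AlgebraicGeometry TopologicalSpace Opposite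

noncomputable section

namespace Groth.Agent.Div57.Units

section

variable {X Z : Scheme.{u}}

/-- The unit of a section of the units sheaf. -/
abbrev val {U : X.Opens} (s : (UnitsSh.unitsAb X).obj.obj (op U)) : Γ(X, U) :=
  (UnitsSh.unitOfSect (O := X.presheaf) s).val

theorem val_inj {U : X.Opens} {s t : (UnitsSh.unitsAb X).obj.obj (op U)} (h : val s = val t) : s = t :=
  congrArg (UnitsSh.sectOfUnit (O := X.presheaf)) (Units.ext h)

theorem val_res {U V : X.Opens} (h : V ≤ U) (s : (UnitsSh.unitsAb X).obj.obj (op U)) :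
    val ((UnitsSh.unitsAb X).obj.map (homOfLE h).op s) = X.presheaf.map (homOfLE h).op (val s) := rfl

theorem val_add {U : X.Opens} (s t : (UnitsSh.unitsAb X).obj.obj (op U)) : val (s + t) = val s * val t := rfl

theorem comap_app_eq_zero_iff (i : Z ⟶ X) {U : X.Opens} (s : (UnitsSh.unitsAb X).obj.obj (op U)) :
    (UnitsSh.comap i).hom.app (op U) s = 0 ↔ i.app U (val s - 1) = 0 := by
  rw [map_sub, map_one, sub_eq_zero]
  exact ⟨fun h => congrArg (fun t => (UnitsSh.unitOfSect (O := i.base _* Z.presheaf) t).val) h,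
    fun h => congrArg (UnitsSh.sectOfUnit (O := i.base _* Z.presheaf)) (Units.ext h)⟩

/-- The sheaf of units congruent to one along a morphism. -/
abbrev K1 (i : Z ⟶ X) : CohTop.Ab X.toTopCat := kernel (UnitsSh.comap i)

/-- The value of a congruent unit. -/
abbrev kval (i : Z ⟶ X) {U : X.Opens} (s : (K1 i).obj.obj (op U)) : Γ(X, U) :=
  val ((kernel.ι (UnitsSh.comap i)).hom.app (op U) s)

theorem kval_inj (i : Z ⟶ X) {U : X.Opens} {s t : (K1 i).obj.obj (op U)} (h : kval i s = kval i t) : s = t :=
  app_injective _ U (val_inj h)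

theorem kval_res (i : Z ⟶ X) {U V : X.Opens} (h : V ≤ U) (s : (K1 i).obj.obj (op U)) :
    kval i ((K1 i).obj.map (homOfLE h).op s) = X.presheaf.map (homOfLE h).op (kval i s) := by
  refine Eq.trans ?_ (val_res h ((kernel.ι (UnitsSh.comap i)).hom.app (op U) s))
  exact congrArg val (NatTrans.naturality_apply (kernel.ι (UnitsSh.comap i)).hom (homOfLE h).op s)

theorem kval_add (i : Z ⟶ X) {U : X.Opens} (s t : (K1 i).obj.obj (op U)) :
    kval i (s + t) = kval i s * kval i t := by
  rw [kval, map_add, val_add]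

theorem app_kval (i : Z ⟶ X) {U : X.Opens} (s : (K1 i).obj.obj (op U)) : i.app U (kval i s - 1) = 0 :=
  (comap_app_eq_zero_iff i _).1 (app_congr (kernel.condition (UnitsSh.comap i)) U s)

theorem exists_kval (i : Z ⟶ X) {U : X.Opens} (a : Γ(X, U)ˣ) (h : i.app U (a.val - 1) = 0) :
    ∃ s, kval i (U := U) s = a := by
  obtain ⟨s, hs⟩ := exists_kernel_app (UnitsSh.comap i) U (UnitsSh.sectOfUnit (O := X.presheaf) a)
    ((comap_app_eq_zero_iff i _).2 h)
  exact ⟨s, by rw [kval, hs]; rfl⟩

end

variable {A A₁ A₂ A₀ : Type u} [CommRing A] [CommRing A₁] [CommRing A₂] [CommRing A₀] {X : Scheme.{u}}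
  (f : X ⟶ Spec (CommRingCat.of A)) (q : A →+* A₁) (q' : A →+* A₂) (q₀ : A →+* A₀)

/-- Data of a small extension of quotients of the base. -/
structure Small (t : A) : Prop where
  surj : Function.Surjective q
  surj' : Function.Surjective q'
  surj₀ : Function.Surjective q₀
  le : RingHom.ker q' ≤ RingHom.ker q
  mem : q t = 0
  span : RingHom.ker q ≤ RingHom.ker q' ⊔ Ideal.span {t}
  colon : ∀ a, t * a ∈ RingHom.ker q' ↔ a ∈ RingHom.ker q₀
  sq : q' (t * t) = 0
  nil : IsNilpotent t

variable {t : A} (hs : Small q q' q₀ t)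

include hs in
theorem app_of_app' {U : X.Opens} (s : Γ(X, U)) (h : (inc f q').app U s = 0) : (inc f q).app U s = 0 :=
  app_eq_zero_of_local _ s fun W hW => by
    have h' := app_res_eq_zero _ hW s h
    rw [← RingHom.mem_ker, ker_inc_app f q' hs.surj'] at h'
    rw [← RingHom.mem_ker, ker_inc_app f q hs.surj]
    exact Ideal.map_mono hs.le h'

/-- The inclusion between the sheaves of congruent units. -/
def stepι : K1 (inc f q') ⟶ K1 (inc f q) :=
  kernel.lift _ (kernel.ι (UnitsSh.comap (inc f q'))) (by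
    apply Sheaf.hom_ext
    ext V s
    exact (comap_app_eq_zero_iff _ _).2 (app_of_app' f q q' q₀ hs _ (app_kval (inc f q') s)))

theorem kval_stepι {U : X.Opens} (s : (K1 (inc f q')).obj.obj (op U)) :
    kval (inc f q) ((stepι f q q' q₀ hs).hom.app (op U) s) = kval (inc f q') s :=
  congrArg val (app_congr (kernel.lift_ι (UnitsSh.comap (inc f q)) (kernel.ι (UnitsSh.comap (inc f q'))) _) U s)

theorem mono_stepι : Mono (stepι f q q' q₀ hs) := mono_of_mono_fac (kernel.lift_ι _ _ _)

theorem π_eq_zero_iff {U : X.Opens} (s : (K1 (inc f q)).obj.obj (op U)) :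
    (cokernel.π (stepι f q q' q₀ hs)).hom.app (op U) s = 0 ↔ (inc f q').app U (kval (inc f q) s - 1) = 0 := by
  haveI := mono_stepι f q q' q₀ hs
  constructor
  · intro h
    obtain ⟨r, hr⟩ := exists_app_of_exact (S := ShortComplex.mk (stepι f q q' q₀ hs) _ (cokernel.condition _))
      (ShortComplex.exact_of_g_is_cokernel _ (cokernelIsCokernel _)) U s h
    rw [← hr]
    erw [kval_stepι f q q' q₀ hs]
    exact app_kval _ r
  · intro h
    obtain ⟨r, hr⟩ := exists_kval (inc f q')
      (UnitsSh.unitOfSect (O := X.presheaf) ((kernel.ι (UnitsSh.comap (inc f q))).hom.app (op U) s)) h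
    have : (stepι f q q' q₀ hs).hom.app (op U) r = s := kval_inj _ (by rw [kval_stepι, hr])
    rw [← this]
    exact app_congr (cokernel.condition _) U r

include hs in
theorem isUnit_one_add {U : X.Opens} (r : Γ(X, U)) : IsUnit (1 + rho f U t * r) :=
  ((Commute.all _ _).isNilpotent_mul_right (hs.nil.map (rho f U))).isUnit_one_add

include hs in
theorem exists_gen {U : X.Opens} (r : Γ(X, U)) :
    ∃ s, kval (inc f q) (U := U) s = 1 + rho f U t * r := by
  obtain ⟨s, hs'⟩ := exists_kval (inc f q) (isUnit_one_add f q q' q₀ hs r).unit (by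
    rw [IsUnit.unit_spec, add_sub_cancel_left, map_mul, app_rho_eq_zero f q hs.surj t hs.mem, zero_mul])
  exact ⟨s, hs'.trans (IsUnit.unit_spec _)⟩

/-- A congruent unit `1 + t r`. -/
def gen {U : X.Opens} (r : Γ(X, U)) : (K1 (inc f q)).obj.obj (op U) := (exists_gen f q q' q₀ hs r).choose

theorem kval_gen {U : X.Opens} (r : Γ(X, U)) : kval (inc f q) (gen f q q' q₀ hs r) = 1 + rho f U t * r :=
  (exists_gen f q q' q₀ hs r).choose_spec

/-- The map `r ↦ 1 + t r` to the quotient. -/
def stepμ : Coh.toAb (Coh.structureModule X) ⟶ cokernel (stepι f q q' q₀ hs) :=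
  ⟨{ app := fun V => AddCommGrpCat.ofHom (AddMonoidHom.mk'
      (fun r => (cokernel.π (stepι f q q' q₀ hs)).hom.app V
        (gen f q q' q₀ hs (show Γ(X, V.unop) from r))) fun a b => by
          rw [← map_add, ← sub_eq_zero, ← map_sub]
          refine (π_eq_zero_iff f q q' q₀ hs _).2 ?_
          set U := V.unop
          set c := gen f q q' q₀ hs (show Γ(X, U) from a) + gen f q q' q₀ hs (show Γ(X, U) from b)
          set d := gen f q q' q₀ hs (U := U) (show Γ(X, U) from a + b) - c
          have h1 : kval (inc f q) d * kval (inc f q) c =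
              1 + rho f U t * ((show Γ(X, U) from a) + (show Γ(X, U) from b)) := by
            rw [← kval_add, sub_add_cancel, kval_gen]
          have h2 : kval (inc f q) c = (1 + rho f U t * (show Γ(X, U) from a)) *
              (1 + rho f U t * (show Γ(X, U) from b)) := by
            rw [kval_add, kval_gen, kval_gen]
          have h3 : IsUnit (kval (inc f q) c) := Units.isUnit _
          have h4 : (inc f q').app U ((kval (inc f q) d - 1) * kval (inc f q) c) = 0 := by
            rw [sub_mul, one_mul, h1, h2, show (1 + rho f U t * ((show Γ(X, U) from a) + (show Γ(X, U) from b))) -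
              (1 + rho f U t * (show Γ(X, U) from a)) * (1 + rho f U t * (show Γ(X, U) from b)) =
              rho f U (t * t) * -((show Γ(X, U) from a) * (show Γ(X, U) from b)) by rw [map_mul]; ring,
              map_mul, app_rho_eq_zero f q' hs.surj' _ hs.sq, zero_mul]
          rw [map_mul] at h4
          exact (h3.map ((inc f q').app U).hom).mul_left_eq_zero.1 h4)
     naturality := fun V W i => by
      ext r
      refine Eq.trans ?_ (NatTrans.naturality_apply (cokernel.π (stepι f q q' q₀ hs)).hom i _)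
      refine congrArg ((cokernel.π (stepι f q q' q₀ hs)).hom.app W) (kval_inj _ ?_)
      refine (kval_gen f q q' q₀ hs _).trans ?_
      have e := kval_res (inc f q) i.unop.le (gen f q q' q₀ hs (show Γ(X, V.unop) from r))
      rw [kval_gen, map_add, map_one, map_mul, rho_res] at e
      exact e.symm }⟩

theorem stepμ_apply {U : X.Opens} (r : Γ(X, U)) :
    (stepμ f q q' q₀ hs).hom.app (op U) r = (cokernel.π (stepι f q q' q₀ hs)).hom.app (op U) (gen f q q' q₀ hs r) :=
  rfl

theorem stepμ_eq_zero_iff [Flat f] {U : X.Opens} (r : Γ(X, U)) :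
    (stepμ f q q' q₀ hs).hom.app (op U) r = 0 ↔ (inc f q₀).app U r = 0 := by
  rw [stepμ_apply, π_eq_zero_iff, kval_gen, add_sub_cancel_left]
  constructor
  · refine fun h => app_eq_zero_of_local _ r fun W hW => ?_
    have h' := app_res_eq_zero _ hW _ h
    rw [map_mul, rho_res, ← RingHom.mem_ker, ker_inc_app f q' hs.surj'] at h'
    rw [← RingHom.mem_ker, ker_inc_app f q₀ hs.surj₀]
    exact mem_map_of_mul_mem _ (flat_rho f W) _ _ t hs.colon _ h'
  · refine fun h => app_eq_zero_of_local _ _ fun W hW => ?_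
    have h' := app_res_eq_zero _ hW _ h
    rw [← RingHom.mem_ker, ker_inc_app f q₀ hs.surj₀] at h'
    rw [map_mul, rho_res, ← RingHom.mem_ker, ker_inc_app f q' hs.surj']
    refine (Ideal.map_mono (Ideal.span_singleton_mul_le_iff.2 fun a ha => (hs.colon a).2 ha) :
      (Ideal.span {t} * RingHom.ker q₀).map (rho f W.1) ≤ _) ?_
    rw [Ideal.map_mul, Ideal.map_span, Set.image_singleton]
    exact Ideal.mem_span_singleton_mul.2 ⟨_, h', rfl⟩

theorem epi_stepμ : Epi (stepμ f q q' q₀ hs) := by
  refine epi_of_local _ fun U s x hx => ?_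
  obtain ⟨W₀, hW₀, hxW₀, k, hk⟩ := local_of_epi (cokernel.π (stepι f q q' q₀ hs)) U s x hx
  obtain ⟨W, hW, hxW, hWW₀⟩ := exists_isAffineOpen_mem_and_subset (x := x) (U := W₀) hxW₀
  replace hWW₀ : W ≤ W₀ := hWW₀
  set k' := (K1 (inc f q)).obj.map (homOfLE hWW₀).op k
  have h : kval (inc f q) k' - 1 ∈ (RingHom.ker q' ⊔ Ideal.span {t}).map (rho f W) := by
    refine Ideal.map_mono hs.span ?_
    rw [← ker_inc_app f q hs.surj ⟨W, hW⟩]
    exact app_kval _ k'
  rw [Ideal.map_sup, Ideal.map_span, Set.image_singleton, Submodule.mem_sup] at h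
  obtain ⟨a, ha, b, hb, hab⟩ := h
  obtain ⟨r, rfl⟩ := Ideal.mem_span_singleton.1 hb
  refine ⟨W, hWW₀.trans hW₀, hxW, r, ?_⟩
  rw [stepμ_apply]
  refine Eq.trans ?_ ((NatTrans.naturality_apply (cokernel.π (stepι f q q' q₀ hs)).hom (homOfLE hWW₀).op k).trans
    ((congrArg ((cokernel (stepι f q q' q₀ hs)).obj.map (homOfLE hWW₀).op) hk).trans ?_))
  · rw [← sub_eq_zero, ← map_sub]
    refine (π_eq_zero_iff f q q' q₀ hs _).2 ?_
    set d := gen f q q' q₀ hs r - k'
    have h1 : kval (inc f q) d * kval (inc f q) k' = 1 + rho f W t * r := by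
      rw [← kval_add, sub_add_cancel, kval_gen]
    have h2 : (inc f q').app W ((kval (inc f q) d - 1) * kval (inc f q) k') = 0 := by
      rw [sub_mul, one_mul, h1, show 1 + rho f W t * r - kval (inc f q) k' = -a by linear_combination hab,
        map_neg, neg_eq_zero, ← RingHom.mem_ker, ker_inc_app f q' hs.surj' ⟨W, hW⟩]
      exact ha
    rw [map_mul] at h2
    exact (((Units.isUnit _ : IsUnit (kval (inc f q) k'))).map ((inc f q').app W).hom).mul_left_eq_zero.1 h2
  · rw [← ConcreteCategory.comp_apply, ← Functor.map_comp]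
    rfl

/-- The direct image of the structure sheaf of a closed subscheme. -/
abbrev push₀ : CohTop.Ab X.toTopCat :=
  Coh.toAb ((Coh.push (inc f q₀)).obj (Coh.structureModule (pullback f (Spec.map (CommRingCat.ofHom q₀)))))

/-- Restriction of functions to a closed subscheme. -/
def resMap : Coh.toAb (Coh.structureModule X) ⟶ push₀ f q₀ :=
  (SheafOfModules.toSheaf X.ringCatSheaf).map (ClSub.unitToPush (inc f q₀))

theorem resMap_apply {U : X.Opens} (r : Γ(X, U)) :
    (resMap f q₀).hom.app (op U) r = (inc f q₀).app U r := rfl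

include hs in
theorem nonempty_coker_iso [Flat f] :
    Nonempty (cokernel (stepι f q q' q₀ hs) ≅ push₀ f q₀) := by
  haveI := epi_stepμ f q q' q₀ hs
  haveI : Epi (resMap f q₀) := epi_of_local _ fun U s x hx => by
    obtain ⟨W, hW, hxW, hWU⟩ := exists_isAffineOpen_mem_and_subset (x := x) (U := U) hx
    replace hWU : W ≤ U := hWU
    obtain ⟨r, hr⟩ := inc_app_surjective f q₀ hs.surj₀ ⟨W, hW⟩ ((push₀ f q₀).obj.map (homOfLE hWU).op s)
    exact ⟨W, hWU, hxW, r, (resMap_apply f q₀ r).trans hr⟩
  exact nonempty_iso_of_epi (stepμ f q q' q₀ hs) (resMap f q₀) fun U r => stepμ_eq_zero_iff f q q' q₀ hs (show Γ(X, U) from r)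

theorem nonempty_H_push₀ (hq : Function.Surjective q₀) (n : ℕ) :
    Nonempty (Coh.HH (pullback f (Spec.map (CommRingCat.ofHom q₀))) (Coh.structureModule _) n ≃+
      CohTop.H (push₀ f q₀) n) := by
  haveI := isClosedImmersion_inc f q₀ hq
  exact Groth.Agent.QCoh.HH_push_of_isAffineHom (inc f q₀) Groth.Agent.QCoh.isQCoh_structureModule n

include hs in
/-- Vanishing passes through a small extension. -/
theorem subsingleton_step [Flat f] (n : ℕ) (h' : Subsingleton (CohTop.H (K1 (inc f q')) n))
    (h₀ : Subsingleton (Coh.HH (pullback f (Spec.map (CommRingCat.ofHom q₀))) (Coh.structureModule _) n)) :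
    Subsingleton (CohTop.H (K1 (inc f q)) n) := by
  haveI := mono_stepι f q q' q₀ hs
  obtain ⟨e⟩ := nonempty_coker_iso f q q' q₀ hs
  obtain ⟨e1⟩ := nonempty_H_equiv e n
  obtain ⟨e2⟩ := nonempty_H_push₀ f q₀ hs.surj₀ n
  exact H_subsingleton_mid (S := ShortComplex.mk (stepι f q q' q₀ hs) _ (cokernel.condition _))
    { exact := ShortComplex.exact_of_g_is_cokernel _ (cokernelIsCokernel _) } n h' (e1.trans e2.symm).toEquiv.subsingleton

include hs in
/-- Congruent units of a small extension of the base itself. -/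
theorem nonempty_iso_step [Flat f] (h' : IsZero (K1 (inc f q'))) : Nonempty (K1 (inc f q) ≅ push₀ f q₀) := by
  obtain ⟨e⟩ := nonempty_coker_iso f q q' q₀ hs
  haveI : IsIso (cokernel.π (stepι f q q' q₀ hs)) := by
    have key : ∀ g : K1 (inc f q') ⟶ K1 (inc f q), g = 0 → IsIso (cokernel.π g) := by
      rintro _ rfl; infer_instance
    exact key _ (h'.eq_of_src _ _)
  exact ⟨asIso (cokernel.π (stepι f q q' q₀ hs)) ≪≫ e⟩

theorem isZero_K1 (hq : Function.Surjective q') (hker : RingHom.ker q' = ⊥) : IsZero (K1 (inc f q')) := by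
  haveI : Mono (UnitsSh.comap (inc f q')) := mono_of_app _ fun U => (injective_iff_map_eq_zero _).2 fun s hs => by
    refine val_inj (s := s) (t := 0) (sub_eq_zero.1 ?_)
    change val s - 1 = 0
    refine TopCat.Presheaf.section_ext X.sheaf U _ _ fun x hx => ?_
    obtain ⟨W, hW, hxW, hWU⟩ := exists_isAffineOpen_mem_and_subset (x := x) (U := U) hx
    replace hWU : W ≤ U := hWU
    have h := app_res_eq_zero _ hWU _ ((comap_app_eq_zero_iff _ _).1 hs)
    rw [← RingHom.mem_ker, ker_inc_app f q' hq ⟨W, hW⟩, hker, Ideal.map_bot, Ideal.mem_bot] at h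
    change X.presheaf.germ U x hx _ = X.presheaf.germ U x hx 0
    rw [← TopCat.Presheaf.germ_res_apply X.presheaf (homOfLE hWU) x hxW, h, map_zero, map_zero]
  exact isZero_kernel_of_mono _

end Groth.Agent.Div57.Units
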